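import Mathlib
import Cfsg.Agent.S0256

set_option autoImplicit false

/-! # `GL(4,2)` is isomorphic to the alternating group of degree eight -/

namespace Cfsg.Agent.Lib.Helper5.GL42

open Matrix

theorem center_sl_bot : Subgroup.center (SpecialLinearGroup (Fin 4) (ZMod 2)) = ⊥ := by
  rw [eq_bot_iff]
  intro A hA
  rw [Matrix.SpecialLinearGroup.mem_center_iff] at hA
  obtain ⟨r, hr, hA⟩ := hA
  have h1 : r = 1 := by
    have key : ∀ r : ZMod 2, r ^ 4 = 1 → r = 1 := by decide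
    apply key
    simpa using hr
  rw [Subgroup.mem_bot]
  apply Subtype.ext
  rw [← hA, h1]
  simp

/-- `SL(4,2) ≃* PSL(4,2)` -/
noncomputable def slEquivPsl :
    SpecialLinearGroup (Fin 4) (ZMod 2) ≃* ProjectiveSpecialLinearGroup (Fin 4) (ZMod 2) :=
  (QuotientGroup.quotientBot (G := SpecialLinearGroup (Fin 4) (ZMod 2))).symm.trans
    (QuotientGroup.quotientMulEquivOfEq center_sl_bot.symm)

theorem det_gl_eq_one (g : GL (Fin 4) (ZMod 2)) : (g : Matrix (Fin 4) (Fin 4) (ZMod 2)).det = 1 := by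
  have hu : IsUnit (g : Matrix (Fin 4) (Fin 4) (ZMod 2)).det := by
    have := (Matrix.isUnit_iff_isUnit_det (g : Matrix (Fin 4) (Fin 4) (ZMod 2))).1 g.isUnit
    exact this
  generalize (g : Matrix (Fin 4) (Fin 4) (ZMod 2)).det = d at hu
  revert hu
  revert d
  decide

/-- `GL(4,2) ≃* SL(4,2)` -/
noncomputable def glEquivSl : GL (Fin 4) (ZMod 2) ≃* SpecialLinearGroup (Fin 4) (ZMod 2) :=
  (MulEquiv.ofBijective (SpecialLinearGroup.toGL (n := Fin 4) (R := ZMod 2)) (by
    constructor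
    · exact SpecialLinearGroup.toGL_injective
    · intro g
      refine ⟨⟨(g : Matrix (Fin 4) (Fin 4) (ZMod 2)), det_gl_eq_one g⟩, ?_⟩
      apply Units.ext
      exact SpecialLinearGroup.coe_GL_coe_matrix _)).symm

theorem exists_glEquivAlt :
    Nonempty (GL (Fin 4) (ZMod 2) ≃* alternatingGroup (Fin 8)) := by
  obtain ⟨e⟩ := Cfsg.Agent.S0256.result (F := ZMod 2) (by simp [ZMod.card])
  exact ⟨(glEquivSl.trans slEquivPsl).trans e⟩

end Cfsg.Agent.Lib.Helper5.GL42
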