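import Mathlib

set_option autoImplicit false

/-! # Normalizers of cyclic subgroups of prime order in symmetric groups -/

namespace Cfsg.Agent.Lib.Helper5.GL42

section general
variable {G : Type*} [Group G] [Finite G]

/-- a subgroup normalizing `⟨g⟩` has order dividing `|C(g)| * φ(|g|)` -/
theorem card_dvd_of_le_normalizer_zpowers (g : G) (K : Subgroup G)
    (hK : K ≤ Subgroup.normalizer (Subgroup.zpowers g : Set G)) :
    Nat.card K ∣ Nat.card (Subgroup.centralizer ({g} : Set G)) * (orderOf g).totient := by
  classical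
  let φ : K →* MulAut (Subgroup.zpowers g) :=
    (Subgroup.normalizerMonoidHom (Subgroup.zpowers g)).comp (Subgroup.inclusion hK)
  have h1 : Nat.card K = Nat.card φ.ker * Nat.card φ.range := by
    rw [Subgroup.card_eq_card_quotient_mul_card_subgroup φ.ker, mul_comm]
    congr 1
    exact Nat.card_congr (QuotientGroup.quotientKerEquivRange φ).toEquiv
  have h2 : Nat.card φ.range ∣ (orderOf g).totient := by
    have hc : Nat.card (MulAut (Subgroup.zpowers g)) = (orderOf g).totient := by
      rw [Nat.card_congr (IsCyclic.mulAutMulEquiv (Subgroup.zpowers g)).toEquiv,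
        Nat.card_zpowers]
      have : NeZero (orderOf g) := ⟨(orderOf_pos g).ne'⟩
      rw [Nat.card_eq_fintype_card, ZMod.card_units_eq_totient]
    rw [← hc]
    exact Subgroup.card_subgroup_dvd_card _
  have h3 : Nat.card φ.ker ∣ Nat.card (Subgroup.centralizer ({g} : Set G)) := by
    let ψ : φ.ker →* Subgroup.centralizer ({g} : Set G) :=
      { toFun := fun x => ⟨(x : K), by
          have hx : φ x.1 = 1 := x.2
          rw [Subgroup.mem_centralizer_singleton_iff]
          have h := congrArg (fun a : MulAut (Subgroup.zpowers g) =>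
            ((a ⟨g, Subgroup.mem_zpowers g⟩ : Subgroup.zpowers g) : G)) hx
          simp only [MulAut.one_apply] at h
          have h' : (x.1 : G) * g * (x.1 : G)⁻¹ = g := h
          symm
          calc g * (x.1 : G) = ((x.1 : G) * g * (x.1 : G)⁻¹) * (x.1 : G) := by rw [h']
            _ = (x.1 : G) * g := by group⟩
        map_one' := rfl
        map_mul' := fun a b => rfl }
    have hinj : Function.Injective ψ := by
      intro a b hab
      apply Subtype.ext
      apply Subtype.ext
      exact congrArg (fun z : Subgroup.centralizer ({g} : Set G) => (z : G)) hab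
    exact Subgroup.card_dvd_of_injective ψ hinj
  rw [h1]
  exact Nat.mul_dvd_mul h3 h2

end general

section perm8
open Equiv

theorem cycleType_of_prime_order_gt_four (g : Perm (Fin 8)) (p : ℕ) (hp : p.Prime) (h4 : 4 < p)
    (h : orderOf g = p) : g.cycleType = {p} := by
  obtain ⟨n, hn⟩ := Perm.cycleType_prime_order (σ := g) (by rw [h]; exact hp)
  rw [h] at hn
  have hs : g.cycleType.sum ≤ 8 := by
    rw [Perm.sum_cycleType]
    exact (Finset.card_le_univ _).trans (by simp)
  rw [hn, Multiset.sum_replicate, smul_eq_mul] at hs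
  have hn0 : n = 0 := by
    by_contra hne
    have : 2 ≤ n + 1 := by omega
    nlinarith
  rw [hn, hn0]
  rfl

theorem card_centralizer_order_seven (g : Perm (Fin 8)) (h : orderOf g = 7) :
    Nat.card (Subgroup.centralizer ({g} : Set (Perm (Fin 8)))) = 7 := by
  rw [Perm.nat_card_centralizer, cycleType_of_prime_order_gt_four g 7 (by norm_num) (by norm_num) h]
  simp

theorem card_centralizer_order_five (g : Perm (Fin 8)) (h : orderOf g = 5) :
    Nat.card (Subgroup.centralizer ({g} : Set (Perm (Fin 8)))) = 30 := by
  rw [Perm.nat_card_centralizer, cycleType_of_prime_order_gt_four g 5 (by norm_num) (by norm_num) h]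
  simp
  rfl

end perm8

section parity
open Equiv

/-- two points moved by `g` and fixed by an inverting involution coincide -/
theorem eq_of_fixed_of_inverts (g t : Perm (Fin 8)) (hg : orderOf g = 7)
    (hinv : t * g * t⁻¹ = g⁻¹) (x y : Fin 8) (hx : g x ≠ x) (hy : g y ≠ y)
    (htx : t x = x) (hty : t y = y) : x = y := by
  have hct := cycleType_of_prime_order_gt_four g 7 (by norm_num) (by norm_num) hg
  have hcyc : g.IsCycle := by
    rw [← Perm.card_cycleType_eq_one, hct]
    rfl
  obtain ⟨i, -, hi⟩ := (hcyc.sameCycle hx hy).exists_pow_eq'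
  have h1 : t * g ^ i * t⁻¹ = (g⁻¹) ^ i := by rw [← conj_pow, hinv]
  have h2 : (g⁻¹ ^ i) x = y := by
    rw [← h1]
    simp only [Perm.mul_apply]
    have : t⁻¹ x = x := by
      rw [Perm.inv_eq_iff_eq]
      exact htx.symm
    rw [this, hi, hty]
  have h3 : (g ^ (2 * i)) x = x := by
    have : (g ^ i) ((g⁻¹ ^ i) x) = x := by
      rw [inv_pow]
      simp
    rw [h2, ← hi, ← Perm.mul_apply, ← pow_add] at this
    rw [two_mul]
    exact this
  have h4 : g ^ (2 * i) = 1 := (hcyc.pow_eq_one_iff' hx).2 h3
  have h5 : 7 ∣ 2 * i := by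
    rw [← hg]
    exact orderOf_dvd_iff_pow_eq_one.2 h4
  have h6 : 7 ∣ i := by omega
  have h7 : g ^ i = 1 := by
    rw [← hg] at h6
    exact orderOf_dvd_iff_pow_eq_one.1 h6
  rw [h7] at hi
  exact hi

end parity

section parity2
open Equiv

theorem sign_of_inverts (g t : Perm (Fin 8)) (hg : orderOf g = 7) (ht : t ^ 2 = 1)
    (hinv : t * g * t⁻¹ = g⁻¹) : Perm.sign t = -1 := by
  classical
  have hct := cycleType_of_prime_order_gt_four g 7 (by norm_num) (by norm_num) hg
  -- the fixed point of g
  have hfg : Fintype.card (Function.fixedPoints g) = 1 := by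
    rw [Perm.card_fixedPoints, hct]
    rfl
  obtain ⟨⟨a, ha⟩, hauniq⟩ := Fintype.card_eq_one_iff.1 hfg
  have ha' : g a = a := ha
  have hta : t a = a := by
    have h1 : t * g = g⁻¹ * t := by
      rw [← hinv]
      group
    have h2 : g⁻¹ (t a) = t a := by
      have := congrArg (fun p : Perm (Fin 8) => p a) h1
      simp only [Perm.mul_apply] at this
      rw [ha'] at this
      exact this.symm
    have h3 : g (t a) = t a := by
      rw [Perm.inv_eq_iff_eq] at h2
      exact h2.symm
    have := hauniq ⟨t a, h3⟩
    exact congrArg Subtype.val this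
  -- fixed points of t
  have hmod : Fintype.card (Fin 8) ≡ Fintype.card (Function.fixedPoints t) [MOD 2] := by
    haveI : Fact (Nat.Prime 2) := ⟨Nat.prime_two⟩
    let f : Function.End (Fin 8) := (⇑t : Fin 8 → Fin 8)
    have hpw : f ^ 2 ^ 1 = 1 := by
      rw [pow_one, pow_two]
      funext x
      show t (t x) = x
      have hx := congrArg (fun p : Perm (Fin 8) => p x) ht
      simpa [pow_two] using hx
    exact Perm.card_fixedPoints_modEq (f := f) (p := 2) (n := 1) hpw
  have hle : Fintype.card (Function.fixedPoints t) ≤ 2 := by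
    by_contra hgt
    push Not at hgt
    -- three distinct fixed points
    obtain ⟨x, y, z, hxy, hxz, hyz⟩ := Fintype.two_lt_card_iff.1 hgt
    -- at most one of them is `a`; two of them are moved by `g`
    have key : ∀ u v : Function.fixedPoints t, u ≠ v → u.1 ≠ a → v.1 ≠ a → False := by
      intro u v huv hu hv
      apply huv
      apply Subtype.ext
      apply eq_of_fixed_of_inverts g t hg hinv u.1 v.1
      · intro h
        exact hu (congrArg Subtype.val (hauniq ⟨u.1, h⟩))
      · intro h
        exact hv (congrArg Subtype.val (hauniq ⟨v.1, h⟩))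
      · exact u.2
      · exact v.2
    by_cases hxa : x.1 = a
    · have hya : y.1 ≠ a := fun h => hxy (Subtype.ext (hxa.trans h.symm))
      have hza : z.1 ≠ a := fun h => hxz (Subtype.ext (hxa.trans h.symm))
      exact key y z hyz hya hza
    · by_cases hya : y.1 = a
      · have hza : z.1 ≠ a := fun h => hyz (Subtype.ext (hya.trans h.symm))
        exact key x z hxz hxa hza
      · exact key x y hxy hxa hya
  have hpos : 0 < Fintype.card (Function.fixedPoints t) :=
    Fintype.card_pos_iff.2 ⟨⟨a, hta⟩⟩
  have h2 : Fintype.card (Function.fixedPoints t) = 2 := by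
    have h8 : Fintype.card (Fin 8) = 8 := by simp
    rw [h8] at hmod
    have := hmod.symm
    unfold Nat.ModEq at this
    omega
  have hsum : t.cycleType.sum = 6 := by
    have h := Perm.card_fixedPoints t
    rw [h2] at h
    have hs : t.cycleType.sum ≤ 8 := by
      rw [Perm.sum_cycleType]
      exact (Finset.card_le_univ _).trans (by simp)
    simp at h
    omega
  haveI : Fact (Nat.Prime 2) := ⟨Nat.prime_two⟩
  have hrep := Perm.cycleType_of_pow_prime_eq_one (σ := t) (p := 2) ht
  have hcard : t.cycleType.card = 3 := by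
    rw [hrep, Multiset.sum_replicate, smul_eq_mul] at hsum
    omega
  rw [Perm.sign_of_cycleType, hsum, hcard]
  rfl

end parity2

section key
open Equiv

/-- a subgroup of the alternating group of degree eight that normalizes a subgroup of
order seven has order dividing `21` -/
theorem card_dvd_twentyone (g : Perm (Fin 8)) (hg : orderOf g = 7) (K : Subgroup (Perm (Fin 8)))
    (hKA : K ≤ alternatingGroup (Fin 8))
    (hK : K ≤ Subgroup.normalizer (Subgroup.zpowers g : Set (Perm (Fin 8)))) :
    Nat.card K ∣ 21 := by
  classical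
  have h42 : Nat.card K ∣ 42 := by
    have := card_dvd_of_le_normalizer_zpowers g K hK
    rw [card_centralizer_order_seven g hg, hg] at this
    have ht : Nat.totient 7 = 6 := by decide
    rw [ht] at this
    exact this
  have hodd : ¬ 2 ∣ Nat.card K := by
    intro h2
    haveI : Fact (Nat.Prime 2) := ⟨Nat.prime_two⟩
    obtain ⟨t, ht⟩ := exists_prime_orderOf_dvd_card' (G := K) 2 h2
    have ht2 : (t : Perm (Fin 8)) ^ 2 = 1 := by
      have : t ^ 2 = 1 := by rw [← ht]; exact pow_orderOf_eq_one t
      exact congrArg (fun z : K => (z : Perm (Fin 8))) this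
    have htne : (t : Perm (Fin 8)) ≠ 1 := by
      intro h
      have : t = 1 := Subtype.ext h
      rw [this, orderOf_one] at ht
      norm_num at ht
    have htn := hK t.2
    have hmem : (t : Perm (Fin 8)) * g * (t : Perm (Fin 8))⁻¹ ∈ Subgroup.zpowers g := by
      rw [Subgroup.mem_normalizer_iff] at htn
      exact (htn g).1 (Subgroup.mem_zpowers g)
    obtain ⟨k, hk⟩ := (Submonoid.mem_powers_iff _ _).1 (mem_powers_iff_mem_zpowers.2 hmem)
    -- `g ^ (k * k) = g`
    have hkk : g ^ (k * k) = g ^ 1 := by
      rw [pow_mul, hk, conj_pow, hk, pow_one]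
      have hinv : (t : Perm (Fin 8))⁻¹ = t := by
        rw [inv_eq_iff_mul_eq_one, ← pow_two, ht2]
      calc (t : Perm (Fin 8)) * ((t : Perm (Fin 8)) * g * (t : Perm (Fin 8))⁻¹) * (t : Perm (Fin 8))⁻¹
          = ((t : Perm (Fin 8)) * (t : Perm (Fin 8))) * g * ((t : Perm (Fin 8)) * (t : Perm (Fin 8)))⁻¹ := by
            group
        _ = g := by rw [← pow_two, ht2]; simp
    have hmod := pow_eq_pow_iff_modEq.1 hkk
    rw [hg] at hmod
    have hk7 : k % 7 = 1 ∨ k % 7 = 6 := by
      have h1 : (k * k) % 7 = 1 := hmod
      have h2 : (k * k) % 7 = ((k % 7) * (k % 7)) % 7 := Nat.mul_mod k k 7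
      have h3 : k % 7 < 7 := Nat.mod_lt _ (by norm_num)
      rw [h2] at h1
      generalize k % 7 = r at h1 h3
      interval_cases r <;> simp_all
    have hkr : g ^ (k % 7) = (t : Perm (Fin 8)) * g * (t : Perm (Fin 8))⁻¹ := by
      rw [← hk, ← hg, pow_mod_orderOf]
    rcases hk7 with h1 | h6
    · -- `t` centralizes `g`
      rw [h1, pow_one] at hkr
      have htc : (t : Perm (Fin 8)) ∈ Subgroup.centralizer ({g} : Set (Perm (Fin 8))) := by
        rw [Subgroup.mem_centralizer_singleton_iff]
        calc (t : Perm (Fin 8)) * g = ((t : Perm (Fin 8)) * g * (t : Perm (Fin 8))⁻¹) * (t : Perm (Fin 8)) := by group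
          _ = g * (t : Perm (Fin 8)) := by rw [← hkr]
      have ho : orderOf (⟨(t : Perm (Fin 8)), htc⟩ : Subgroup.centralizer ({g} : Set (Perm (Fin 8)))) ∣ 7 := by
        rw [← card_centralizer_order_seven g hg]
        exact orderOf_dvd_natCard _
      have ho2 : orderOf (⟨(t : Perm (Fin 8)), htc⟩ : Subgroup.centralizer ({g} : Set (Perm (Fin 8)))) = 2 := by
        rw [← ht]
        rw [← Subgroup.orderOf_coe, ← Subgroup.orderOf_coe t]
      rw [ho2] at ho
      norm_num at ho
    · -- `t` inverts `g`
      have hinv : (t : Perm (Fin 8)) * g * (t : Perm (Fin 8))⁻¹ = g⁻¹ := by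
        rw [← hkr, h6]
        rw [eq_inv_iff_mul_eq_one, ← pow_succ]
        have h7 : g ^ 7 = 1 := by
          rw [← hg]
          exact pow_orderOf_eq_one g
        exact h7
      have hs := sign_of_inverts g t hg ht2 hinv
      have hA : (t : Perm (Fin 8)) ∈ alternatingGroup (Fin 8) := hKA t.2
      rw [Perm.mem_alternatingGroup] at hA
      rw [hA] at hs
      exact absurd hs (by decide)
  have : Nat.card K ∣ 42 := h42
  have h21 : (42 : ℕ) = 2 * 21 := by norm_num
  rw [h21] at this
  exact (Nat.Coprime.dvd_mul_left (by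
    apply Nat.Coprime.symm
    exact (Nat.Prime.coprime_iff_not_dvd Nat.prime_two).2 hodd)).1 this

end key

end Cfsg.Agent.Lib.Helper5.GL42
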