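import Mathlib
import Cfsg.Agent.Lib.Helper5.GL42.G3

set_option autoImplicit false

/-! # Groups embedded in the alternating group of degree eight: Sylow 7-normalizers, small indices -/

namespace Cfsg.Agent.Lib.Helper5.GL42

open Equiv

theorem card_perm8 : Nat.card (Perm (Fin 8)) = 40320 := by
  rw [Nat.card_perm]
  simp
  rfl

theorem card_A8 : Nat.card (alternatingGroup (Fin 8)) = 20160 := by
  have h := two_mul_nat_card_alternatingGroup (α := Fin 8)
  rw [card_perm8] at h
  omega

instance simple_A8 : IsSimpleGroup (alternatingGroup (Fin 8)) :=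
  alternatingGroup.isSimpleGroup (by simp)

/-- a finite simple group with a proper subgroup of index `k` has order dividing `k!` -/
theorem card_dvd_factorial_index {S : Type*} [Group S] [Finite S] [IsSimpleGroup S]
    (K : Subgroup S) (hK : K ≠ ⊤) : Nat.card S ∣ (K.index).factorial := by
  have hn : K.normalCore = ⊥ := by
    rcases (Subgroup.normalCore_normal K).eq_bot_or_eq_top with h | h
    · exact h
    · exfalso
      apply hK
      rw [eq_top_iff, ← h]
      exact Subgroup.normalCore_le K
  rw [Subgroup.normalCore_eq_ker] at hn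
  have hinj : Function.Injective (MulAction.toPermHom S (S ⧸ K)) :=
    (MonoidHom.ker_eq_bot_iff _).1 hn
  have h := Subgroup.card_dvd_of_injective _ hinj
  rw [Nat.card_perm] at h
  exact h

section emb
variable {T : Type*} [Group T] [Finite T] (ι : T →* Perm (Fin 8)) (hι : Function.Injective ι)
  (hA : ∀ x, ι x ∈ alternatingGroup (Fin 8))
include hι hA

theorem card_dvd_A8 : Nat.card T ∣ 20160 := by
  let ι' : T →* alternatingGroup (Fin 8) :=
    { toFun := fun x => ⟨ι x, hA x⟩
      map_one' := Subtype.ext (map_one ι)
      map_mul' := fun a b => Subtype.ext (map_mul ι a b) }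
  have hinj : Function.Injective ι' := by
    intro a b h
    exact hι (congrArg Subtype.val h)
  have := Subgroup.card_dvd_of_injective ι' hinj
  rw [card_A8] at this
  exact this

/-- the image of `T` in the alternating group has no index between `2` and `7` -/
theorem index_not_small (k : ℕ) (hk : k * Nat.card T = 20160) (h1 : 1 < k) (h8 : k < 8) : False := by
  let ι' : T →* alternatingGroup (Fin 8) :=
    { toFun := fun x => ⟨ι x, hA x⟩
      map_one' := Subtype.ext (map_one ι)
      map_mul' := fun a b => Subtype.ext (map_mul ι a b) }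
  have hinj : Function.Injective ι' := by
    intro a b h
    exact hι (congrArg Subtype.val h)
  have hc : Nat.card ι'.range = Nat.card T :=
    Nat.card_congr (MonoidHom.ofInjective hinj).toEquiv.symm
  have hidx : ι'.range.index = k := by
    have h := Subgroup.index_mul_card ι'.range
    rw [hc, card_A8] at h
    have hpos : 0 < Nat.card T := Nat.card_pos
    have : ι'.range.index * Nat.card T = k * Nat.card T := by rw [h, hk]
    exact Nat.eq_of_mul_eq_mul_right hpos this
  have hne : ι'.range ≠ ⊤ := by
    intro h
    rw [h, Subgroup.index_top] at hidx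
    omega
  have hd := card_dvd_factorial_index ι'.range hne
  rw [hidx, card_A8] at hd
  interval_cases k <;> norm_num [Nat.factorial] at hd

/-- the normalizer of a subgroup of order seven has order dividing `21` -/
theorem card_normalizer_dvd_of_card_seven (Q : Subgroup T) (hP : Nat.card Q = 7) :
    Nat.card (Subgroup.normalizer (Q : Set T)) ∣ 21 := by
  haveI : Fact (Nat.Prime 7) := ⟨by norm_num⟩
  haveI : IsCyclic Q := isCyclic_of_prime_card hP
  obtain ⟨x, hx⟩ := IsCyclic.exists_generator (α := Q)
  have hox : orderOf x = 7 := by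
    rw [orderOf_eq_card_of_forall_mem_zpowers hx, hP]
  have hPz : Q = Subgroup.zpowers (x : T) := by
    apply le_antisymm
    · intro y hy
      obtain ⟨k, hk⟩ := Subgroup.mem_zpowers_iff.1 (hx ⟨y, hy⟩)
      rw [Subgroup.mem_zpowers_iff]
      exact ⟨k, by
        have := congrArg (fun z : Q => (z : T)) hk
        simpa using this⟩
    · rw [Subgroup.zpowers_le]
      exact x.2
  let g : Perm (Fin 8) := ι (x : T)
  have hg : orderOf g = 7 := by
    rw [orderOf_injective ι hι, Subgroup.orderOf_coe, hox]
  let K : Subgroup (Perm (Fin 8)) := (Subgroup.normalizer (Q : Set T)).map ι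
  have hKA : K ≤ alternatingGroup (Fin 8) := by
    rintro _ ⟨y, -, rfl⟩
    exact hA y
  have hKn : K ≤ Subgroup.normalizer (Subgroup.zpowers g : Set (Perm (Fin 8))) := by
    have h := Subgroup.le_normalizer_map (H := Q) ι
    rw [hPz, MonoidHom.map_zpowers] at h
    show (Subgroup.normalizer (Q : Set T)).map ι ≤ _
    rw [hPz]
    exact h
  have h21 := card_dvd_twentyone g hg K hKA hKn
  rw [Subgroup.card_map_of_injective hι] at h21
  exact h21

/-- the normalizer of a Sylow `7`-subgroup has order dividing `21` -/
theorem card_normalizer_sylow7_dvd (h7 : 7 ∣ Nat.card T) [Fact (Nat.Prime 7)] (P : Sylow 7 T) :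
    Nat.card (Subgroup.normalizer (P : Set T)) ∣ 21 := by
  have hdvd := card_dvd_A8 ι hι hA
  have hP : Nat.card P = 7 := by
    rw [Sylow.card_eq_multiplicity]
    have hf : (Nat.card T).factorization 7 = 1 := by
      have hpos : Nat.card T ≠ 0 := Nat.card_pos.ne'
      have h1 : 1 ≤ (Nat.card T).factorization 7 :=
        (Nat.Prime.dvd_iff_one_le_factorization (by norm_num) hpos).1 h7
      have h2 : 7 ^ (Nat.card T).factorization 7 ∣ 20160 :=
        (Nat.ordProj_dvd (Nat.card T) 7).trans hdvd
      by_contra hne
      have h3 : 2 ≤ (Nat.card T).factorization 7 := by omega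
      have h4 : 7 ^ 2 ∣ 20160 := (pow_dvd_pow 7 h3).trans h2
      norm_num at h4
    rw [hf, pow_one]
  exact card_normalizer_dvd_of_card_seven ι hι hA (P : Subgroup T) hP

theorem card_sylow7 (h7 : 7 ∣ Nat.card T) [Fact (Nat.Prime 7)] (P : Sylow 7 T) :
    Nat.card (P : Subgroup T) = 7 := by
  have hdvd := card_dvd_A8 ι hι hA
  rw [Sylow.card_eq_multiplicity]
  have hf : (Nat.card T).factorization 7 = 1 := by
    have hpos : Nat.card T ≠ 0 := Nat.card_pos.ne'
    have h1 : 1 ≤ (Nat.card T).factorization 7 :=
      (Nat.Prime.dvd_iff_one_le_factorization (by norm_num) hpos).1 h7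
    have h2 : 7 ^ (Nat.card T).factorization 7 ∣ 20160 :=
      (Nat.ordProj_dvd (Nat.card T) 7).trans hdvd
    by_contra hne
    have h3 : 2 ≤ (Nat.card T).factorization 7 := by omega
    have h4 : 7 ^ 2 ∣ 20160 := (pow_dvd_pow 7 h3).trans h2
    norm_num at h4
  rw [hf, pow_one]

end emb

section emb2
variable {T : Type*} [Group T] [Finite T] (ι : T →* Perm (Fin 8)) (hι : Function.Injective ι)
  (hA : ∀ x, ι x ∈ alternatingGroup (Fin 8))
include hι hA

theorem card_normalizer_sylow7 (h7 : 7 ∣ Nat.card T) [Fact (Nat.Prime 7)] (P : Sylow 7 T) :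
    Nat.card (Subgroup.normalizer (P : Set T)) = 7 ∨
      Nat.card (Subgroup.normalizer (P : Set T)) = 21 := by
  have h21 := card_normalizer_sylow7_dvd ι hι hA h7 P
  have hP7 : 7 ∣ Nat.card (P : Subgroup T) := by
    rw [Sylow.card_eq_multiplicity]
    have hpos : Nat.card T ≠ 0 := Nat.card_pos.ne'
    have h1 : 1 ≤ (Nat.card T).factorization 7 :=
      (Nat.Prime.dvd_iff_one_le_factorization (by norm_num) hpos).1 h7
    exact dvd_pow_self 7 (by omega)
  have h7N : 7 ∣ Nat.card (Subgroup.normalizer (P : Set T)) :=
    hP7.trans (Subgroup.card_dvd_of_le Subgroup.le_normalizer)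
  have hle : Nat.card (Subgroup.normalizer (P : Set T)) ≤ 21 := Nat.le_of_dvd (by norm_num) h21
  generalize Nat.card (Subgroup.normalizer (P : Set T)) = m at *
  interval_cases m <;> omega

/-- Sylow's congruence for the prime seven inside the alternating group of degree eight -/
theorem sylow7_congruence (h7 : 7 ∣ Nat.card T) :
    (Nat.card T / 7) % 7 = 1 ∨ (21 ∣ Nat.card T ∧ (Nat.card T / 21) % 7 = 1) := by
  haveI : Fact (Nat.Prime 7) := ⟨by norm_num⟩
  obtain ⟨P⟩ : Nonempty (Sylow 7 T) := inferInstance
  have hn := card_sylow_modEq_one 7 T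
  rw [Sylow.card_eq_index_normalizer P] at hn
  have hmul := Subgroup.index_mul_card (Subgroup.normalizer (P : Set T))
  unfold Nat.ModEq at hn
  rcases card_normalizer_sylow7 ι hι hA h7 P with h | h
  · left
    rw [h] at hmul
    have : Nat.card T / 7 = (Subgroup.normalizer (P : Set T)).index := by
      rw [← hmul]
      simp
    rw [this, hn]
  · right
    rw [h] at hmul
    refine ⟨⟨_, by rw [← hmul, mul_comm]⟩, ?_⟩
    have : Nat.card T / 21 = (Subgroup.normalizer (P : Set T)).index := by
      rw [← hmul]
      simp
    rw [this, hn]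

end emb2

end Cfsg.Agent.Lib.Helper5.GL42
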