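import Mathlib
import Cfsg.Agent.Lib.Helper5.GL42.G4
import Cfsg.Agent.S0495
import Cfsg.Agent.S0249

set_option autoImplicit false

/-! # The case of a normal simple subgroup of order 168 -/

namespace Cfsg.Agent.Lib.Helper5.GL42

open Equiv Matrix

section
variable {H : Type*} [Group H] [Finite H] (ι : H →* Perm (Fin 8)) (hι : Function.Injective ι)
  (hA : ∀ x, ι x ∈ alternatingGroup (Fin 8))
include hι hA

/-- a normal subgroup of order 168 is everything -/
theorem normal_168_eq_top (N : Subgroup H) [N.Normal] (hN : Nat.card N = 168) : N = ⊤ := by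
  haveI : Fact (Nat.Prime 7) := ⟨by norm_num⟩
  have h7 : 7 ∣ Nat.card N := by rw [hN]; norm_num
  obtain ⟨P⟩ : Nonempty (Sylow 7 N) := inferInstance
  have hιN : Function.Injective (ι.comp N.subtype) := hι.comp N.subtype_injective
  have hAN : ∀ x, (ι.comp N.subtype) x ∈ alternatingGroup (Fin 8) := fun x => hA _
  -- the normalizer in `N` has order 21
  have hNP : Nat.card (Subgroup.normalizer (P : Set N)) = 21 := by
    rcases card_normalizer_sylow7 (ι.comp N.subtype) hιN hAN h7 P with h | h
    · exfalso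
      have hn := card_sylow_modEq_one 7 N
      rw [Sylow.card_eq_index_normalizer P] at hn
      have hmul := Subgroup.index_mul_card (Subgroup.normalizer (P : Set N))
      rw [h, hN] at hmul
      have : (Subgroup.normalizer (P : Set N)).index = 24 := by omega
      rw [this] at hn
      unfold Nat.ModEq at hn
      norm_num at hn
    · exact h
  -- the normalizer in `H`
  let Q : Subgroup H := (P : Subgroup N).map N.subtype
  have hQ : Nat.card Q = 7 := by
    rw [Subgroup.card_map_of_injective N.subtype_injective]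
    exact card_sylow7 (ι.comp N.subtype) hιN hAN h7 P
  have hM := card_normalizer_dvd_of_card_seven ι hι hA Q hQ
  have hsub : (Subgroup.normalizer (P : Set N)).map N.subtype ≤ Subgroup.normalizer (Q : Set H) :=
    Subgroup.le_normalizer_map N.subtype
  have hc1 : Nat.card ((Subgroup.normalizer (P : Set N)).map N.subtype) = 21 := by
    rw [Subgroup.card_map_of_injective N.subtype_injective, hNP]
  have heq : (Subgroup.normalizer (P : Set N)).map N.subtype = Subgroup.normalizer (Q : Set H) := by
    apply Subgroup.eq_of_le_of_card_ge hsub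
    rw [hc1]
    exact Nat.le_of_dvd (by norm_num) hM
  have hle : Subgroup.normalizer (Q : Set H) ≤ N := by
    rw [← heq]
    rintro _ ⟨y, -, rfl⟩
    exact y.2
  have hfr := Sylow.normalizer_sup_eq_top P
  rw [← hfr]
  exact (sup_eq_right.2 hle).symm

end

theorem center_sl3_bot : Subgroup.center (SpecialLinearGroup (Fin 3) (ZMod 2)) = ⊥ := by
  rw [eq_bot_iff]
  intro A hA
  rw [Matrix.SpecialLinearGroup.mem_center_iff] at hA
  obtain ⟨r, hr, hA⟩ := hA
  have h1 : r = 1 := by
    have key : ∀ r : ZMod 2, r ^ 3 = 1 → r = 1 := by decide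
    apply key
    simpa using hr
  rw [Subgroup.mem_bot]
  apply Subtype.ext
  rw [← hA, h1]
  simp

theorem det_gl3_eq_one (g : GL (Fin 3) (ZMod 2)) : (g : Matrix (Fin 3) (Fin 3) (ZMod 2)).det = 1 := by
  have hu : IsUnit (g : Matrix (Fin 3) (Fin 3) (ZMod 2)).det := by
    have := (Matrix.isUnit_iff_isUnit_det (g : Matrix (Fin 3) (Fin 3) (ZMod 2))).1 g.isUnit
    exact this
  generalize (g : Matrix (Fin 3) (Fin 3) (ZMod 2)).det = d at hu
  revert hu
  revert d
  decide

/-- `GL(3,2) ≃* PSL(3,2)` -/
noncomputable def gl3EquivPsl :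
    GL (Fin 3) (ZMod 2) ≃* ProjectiveSpecialLinearGroup (Fin 3) (ZMod 2) :=
  ((MulEquiv.ofBijective (SpecialLinearGroup.toGL (n := Fin 3) (R := ZMod 2)) (by
    constructor
    · exact SpecialLinearGroup.toGL_injective
    · intro g
      refine ⟨⟨(g : Matrix (Fin 3) (Fin 3) (ZMod 2)), det_gl3_eq_one g⟩, ?_⟩
      apply Units.ext
      exact SpecialLinearGroup.coe_GL_coe_matrix _)).symm).trans
  ((QuotientGroup.quotientBot (G := SpecialLinearGroup (Fin 3) (ZMod 2))).symm.trans
    (QuotientGroup.quotientMulEquivOfEq center_sl3_bot.symm))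

theorem card_gl3 : Nat.card (GL (Fin 3) (ZMod 2)) = 168 := by
  rw [Matrix.card_GL_field]
  simp [Fin.prod_univ_succ, ZMod.card]

instance simple_gl3 : IsSimpleGroup (GL (Fin 3) (ZMod 2)) := by
  haveI := Cfsg.Agent.S0249.result (F := ZMod 2) 3 le_rfl
  exact gl3EquivPsl.isSimpleGroup

/-- a simple group of order 168 is `GL(3,2)` -/
theorem iso_gl3_of_simple {H : Type*} [Group H] [Finite H] [IsSimpleGroup H]
    (hc : Nat.card H = 168) : Nonempty (H ≃* GL (Fin 3) (ZMod 2)) := by
  haveI : Fact (Nat.Prime 7) := ⟨by norm_num⟩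
  obtain ⟨e1⟩ := Cfsg.Agent.S0495.result (G := H) hc (F := ZMod 7) (by simp [ZMod.card])
  haveI : Finite (GL (Fin 3) (ZMod 2)) := Nat.finite_of_card_ne_zero (by rw [card_gl3]; norm_num)
  obtain ⟨e2⟩ := Cfsg.Agent.S0495.result (G := GL (Fin 3) (ZMod 2)) card_gl3 (F := ZMod 7)
    (by simp [ZMod.card])
  exact ⟨e1.trans e2.symm⟩

end Cfsg.Agent.Lib.Helper5.GL42
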