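import Mathlib
import Cfsg.Agent.Lib.Helper5.GL42.G4

set_option autoImplicit false

/-! # A subgroup of index eight in the alternating group of degree eight -/

namespace Cfsg.Agent.Lib.Helper5.GL42

open Equiv

theorem card_perm7 : Nat.card (Perm (Fin 7)) = 5040 := by
  rw [Nat.card_perm]
  simp
  rfl

theorem card_perm6 : Nat.card (Perm (Fin 6)) = 720 := by
  rw [Nat.card_perm]
  simp
  rfl

theorem card_perm5 : Nat.card (Perm (Fin 5)) = 120 := by
  rw [Nat.card_perm]
  simp
  rfl

/-- a group of order 2520 acting faithfully on seven points is the alternating group -/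
theorem iso_A7_of_faithful {G Y : Type*} [Group G] [Finite G] [Finite Y] (hc : Nat.card G = 2520)
    (hY : Nat.card Y = 7) (ρ : G →* Perm Y) (hρ : Function.Injective ρ) :
    Nonempty (G ≃* alternatingGroup (Fin 7)) := by
  let e : Y ≃ Fin 7 := Finite.equivFinOfCardEq hY
  let ρ' : G →* Perm (Fin 7) := (permCongrHom e).toMonoidHom.comp ρ
  have hρ' : Function.Injective ρ' := (permCongrHom e).injective.comp hρ
  have hcr : Nat.card ρ'.range = 2520 := by
    rw [← hc]
    exact Nat.card_congr (MonoidHom.ofInjective hρ').toEquiv.symm
  have hidx : ρ'.range.index = 2 := by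
    have h := Subgroup.index_mul_card ρ'.range
    rw [hcr, card_perm7] at h
    omega
  have hr : ρ'.range = alternatingGroup (Fin 7) := Perm.eq_alternatingGroup_of_index_eq_two hidx
  exact ⟨(MonoidHom.ofInjective hρ').trans (MulEquiv.subgroupCongr hr)⟩

section
variable {H : Type*} [Group H] [Finite H] (ι : H →* Perm (Fin 8)) (hι : Function.Injective ι)
  (hA : ∀ x, ι x ∈ alternatingGroup (Fin 8))
include hι hA

theorem iso_A7 (hc : Nat.card H = 2520) : Nonempty (H ≃* alternatingGroup (Fin 7)) := by
  classical
  let ι' : H →* alternatingGroup (Fin 8) :=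
    { toFun := fun x => ⟨ι x, hA x⟩
      map_one' := Subtype.ext (map_one ι)
      map_mul' := fun a b => Subtype.ext (map_mul ι a b) }
  have hinj : Function.Injective ι' := by
    intro a b h
    exact hι (congrArg Subtype.val h)
  let K : Subgroup (alternatingGroup (Fin 8)) := ι'.range
  have hcK : Nat.card K = 2520 := by
    rw [← hc]
    exact Nat.card_congr (MonoidHom.ofInjective hinj).toEquiv.symm
  have hidx : K.index = 8 := by
    have h := Subgroup.index_mul_card K
    rw [hcK, card_A8] at h
    omega
  have hKne : K ≠ ⊤ := by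
    intro h
    rw [h, Subgroup.index_top] at hidx
    omega
  -- the action on the cosets is faithful
  have hcore : K.normalCore = ⊥ := by
    rcases (Subgroup.normalCore_normal K).eq_bot_or_eq_top with h | h
    · exact h
    · exfalso
      apply hKne
      rw [eq_top_iff, ← h]
      exact Subgroup.normalCore_le K
  let X := alternatingGroup (Fin 8) ⧸ K
  letI : MulAction H X := MulAction.compHom X ι'
  have hsmul : ∀ (h : H) (x : X), h • x = ι' h • x := fun _ _ => rfl
  let x₀ : X := ((1 : alternatingGroup (Fin 8)) : X)
  have hfix : ∀ h : H, h • x₀ = x₀ := by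
    intro h
    rw [hsmul]
    have : ι' h ∈ MulAction.stabilizer (alternatingGroup (Fin 8)) x₀ := by
      rw [MulAction.stabilizer_quotient]
      exact ⟨h, rfl⟩
    exact this
  let Y : SubMulAction H X :=
    { carrier := {y | y ≠ x₀}
      smul_mem' := by
        intro h y hy hyx
        apply hy
        have h1 : h⁻¹ • (h • y) = h⁻¹ • x₀ := congrArg (fun z => h⁻¹ • z) hyx
        rw [inv_smul_smul, hfix] at h1
        exact h1 }
  have hXcard : Nat.card X = 8 := hidx
  haveI : Finite X := Nat.finite_of_card_ne_zero (by omega)
  have hYcard : Nat.card Y = 7 := by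
    have h1 : Nat.card Y = ({y : X | y ≠ x₀} : Set X).ncard := rfl
    rw [h1]
    have h2 : ({y : X | y ≠ x₀} : Set X) = ({x₀} : Set X)ᶜ := by
      ext y
      simp
    rw [h2, Set.ncard_compl, Set.ncard_singleton, hXcard]
  have hρinj : Function.Injective (MulAction.toPermHom H Y) := by
    rw [injective_iff_map_eq_one]
    intro h hh
    have hall : ∀ x : X, h • x = x := by
      intro x
      by_cases hx : x = x₀
      · rw [hx]; exact hfix h
      · have := congrArg (fun p : Perm Y => ((p ⟨x, hx⟩ : Y) : X)) hh
        exact this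
    have hker : ι' h ∈ (MulAction.toPermHom (alternatingGroup (Fin 8)) X).ker := by
      rw [MonoidHom.mem_ker]
      ext x
      exact hall x
    rw [← Subgroup.normalCore_eq_ker, hcore, Subgroup.mem_bot] at hker
    apply hinj
    rw [hker, map_one]
  exact iso_A7_of_faithful hc hYcard _ hρinj

end

end Cfsg.Agent.Lib.Helper5.GL42
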