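import Mathlib
import Cfsg.Agent.Lib.Helper5.GL42.G9
import Cfsg.Agent.S0494
import Cfsg.Agent.S2119

set_option autoImplicit false

/-! # The case of a normal simple subgroup of order 60 -/

namespace Cfsg.Agent.Lib.Helper5.GL42

open Equiv

theorem card_alt5 : Nat.card (alternatingGroup (Fin 5)) = 60 := by
  have h := two_mul_nat_card_alternatingGroup (α := Fin 5)
  rw [card_perm5] at h
  omega

/-- a group with a normal self-centralizing subgroup isomorphic to the alternating group of
degree five is the alternating or the symmetric group of degree five -/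
theorem iso_of_normal_A5 {H : Type*} [Group H] [Finite H] (N : Subgroup H) [N.Normal]
    (hN : Nat.card N = 60) [IsSimpleGroup N]
    (hC : Subgroup.centralizer (N : Set H) = ⊥) :
    Nonempty (H ≃* alternatingGroup (Fin 5)) ∨ Nonempty (H ≃* Perm (Fin 5)) := by
  obtain ⟨ε⟩ := Cfsg.Agent.S0494.result (G := N) hN
  let φ : H →* MulAut N := MulAut.conjNormal
  have hφ : Function.Injective φ := by
    rw [injective_iff_map_eq_one]
    intro h hh
    have hmem : h ∈ Subgroup.centralizer (N : Set H) := by
      rw [Subgroup.mem_centralizer_iff]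
      intro n hn
      have h1 := congrArg (fun a : MulAut N => ((a ⟨n, hn⟩ : N) : H)) hh
      simp only [MulAut.one_apply] at h1
      have h2 : h * n * h⁻¹ = n := by
        have := MulAut.conjNormal_apply (H := N) h ⟨n, hn⟩
        rw [← this]
        exact h1
      calc n * h = (h * n * h⁻¹) * h := by rw [h2]
        _ = h * n := by group
    rw [hC, Subgroup.mem_bot] at hmem
    exact hmem
  have hbij := Cfsg.Agent.S2119.result 5 (by norm_num) (by norm_num)
  let κ : Perm (Fin 5) ≃* MulAut (alternatingGroup (Fin 5)) := MulEquiv.ofBijective _ hbij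
  let ψ : H →* Perm (Fin 5) :=
    (κ.symm.toMonoidHom.comp (MulAut.congr ε).toMonoidHom).comp φ
  have hψ : Function.Injective ψ :=
    (κ.symm.injective.comp (MulAut.congr ε).injective).comp hφ
  have hdvd : Nat.card H ∣ 120 := by
    have := Subgroup.card_dvd_of_injective ψ hψ
    rw [card_perm5] at this
    exact this
  have hdvd2 : 60 ∣ Nat.card H := by
    rw [← hN]
    exact Subgroup.card_subgroup_dvd_card N
  have hcases : Nat.card H = 60 ∨ Nat.card H = 120 := by
    obtain ⟨k, hk⟩ := hdvd2
    have hle : Nat.card H ≤ 120 := Nat.le_of_dvd (by norm_num) hdvd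
    have hpos : 0 < Nat.card H := Nat.card_pos
    have hk' : k = 1 ∨ k = 2 := by omega
    rcases hk' with rfl | rfl <;> omega
  rcases hcases with h | h
  · left
    have htop : N = ⊤ := Subgroup.eq_top_of_card_eq N (by rw [hN, h])
    exact ⟨((MulEquiv.subgroupCongr htop).trans Subgroup.topEquiv).symm.trans ε⟩
  · right
    have hb : Function.Bijective ψ := by
      rw [Nat.bijective_iff_injective_and_card]
      exact ⟨hψ, by rw [h, card_perm5]⟩
    exact ⟨MulEquiv.ofBijective ψ hb⟩

end Cfsg.Agent.Lib.Helper5.GL42
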