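import Mathlib
import Cfsg.Agent.Lib.Helper5.GL42.G9
import Cfsg.Agent.S0497

set_option autoImplicit false

/-! # The case of a normal simple subgroup of order 360 -/

namespace Cfsg.Agent.Lib.Helper5.GL42

open Equiv

/-- no subgroup of order 45 in the symmetric group of degree eight -/
theorem no_order_45 {K : Type*} [Group K] [Finite K] (ι : K →* Perm (Fin 8))
    (hι : Function.Injective ι) (hc : Nat.card K = 45) : False := by
  haveI : Fact (Nat.Prime 5) := ⟨by norm_num⟩
  obtain ⟨P⟩ : Nonempty (Sylow 5 K) := inferInstance
  have hP : Nat.card (P : Subgroup K) = 5 := by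
    rw [Sylow.card_eq_multiplicity, hc]
    have hf : (45 : ℕ).factorization 5 = 1 := by
      have h1 : 1 ≤ (45 : ℕ).factorization 5 :=
        (Nat.Prime.dvd_iff_one_le_factorization (by norm_num) (by norm_num)).1 (by norm_num)
      have h2 : 5 ^ (45 : ℕ).factorization 5 ∣ 45 := Nat.ordProj_dvd 45 5
      by_contra hne
      have h3 : 2 ≤ (45 : ℕ).factorization 5 := by omega
      have h4 : 5 ^ 2 ∣ 45 := (pow_dvd_pow 5 h3).trans h2
      norm_num at h4
    rw [hf, pow_one]
  have hidx : (P : Subgroup K).index = 9 := by
    have h := Subgroup.index_mul_card (P : Subgroup K)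
    rw [hP, hc] at h
    omega
  have hn1 : Nat.card (Sylow 5 K) = 1 := by
    have h1 := Sylow.card_dvd_index P
    rw [hidx] at h1
    have h2 := card_sylow_modEq_one 5 K
    unfold Nat.ModEq at h2
    have hle : Nat.card (Sylow 5 K) ≤ 9 := Nat.le_of_dvd (by norm_num) h1
    generalize Nat.card (Sylow 5 K) = n at *
    interval_cases n <;> omega
  haveI : Subsingleton (Sylow 5 K) := (Nat.card_eq_one_iff_unique.1 hn1).1
  have hnorm : (P : Subgroup K).Normal := Sylow.normal_of_subsingleton P
  haveI : IsCyclic (P : Subgroup K) := isCyclic_of_prime_card hP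
  obtain ⟨x, hx⟩ := IsCyclic.exists_generator (α := (P : Subgroup K))
  have hox : orderOf x = 5 := by
    rw [orderOf_eq_card_of_forall_mem_zpowers hx, hP]
  have hPz : (P : Subgroup K) = Subgroup.zpowers (x : K) := by
    apply le_antisymm
    · intro y hy
      obtain ⟨k, hk⟩ := Subgroup.mem_zpowers_iff.1 (hx ⟨y, hy⟩)
      rw [Subgroup.mem_zpowers_iff]
      exact ⟨k, by
        have := congrArg (fun z : (P : Subgroup K) => (z : K)) hk
        simpa using this⟩
    · rw [Subgroup.zpowers_le]
      exact x.2
  let g : Perm (Fin 8) := ι (x : K)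
  have hg : orderOf g = 5 := by
    rw [orderOf_injective ι hι, Subgroup.orderOf_coe, hox]
  have hKn : ι.range ≤ Subgroup.normalizer (Subgroup.zpowers g : Set (Perm (Fin 8))) := by
    have h := Subgroup.le_normalizer_map (H := (P : Subgroup K)) ι
    rw [hPz, MonoidHom.map_zpowers] at h
    have htop : Subgroup.normalizer ((Subgroup.zpowers (x : K)) : Set K) = ⊤ := by
      rw [← hPz]
      exact Subgroup.normalizer_eq_top_iff.2 hnorm
    rw [htop, ← MonoidHom.range_eq_map] at h
    exact h
  have hd := card_dvd_of_le_normalizer_zpowers g ι.range hKn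
  rw [card_centralizer_order_five g hg, hg] at hd
  have hcr : Nat.card ι.range = 45 := by
    rw [← hc]
    exact Nat.card_congr (MonoidHom.ofInjective hι).toEquiv.symm
  rw [hcr] at hd
  have ht : Nat.totient 5 = 4 := by decide
  rw [ht] at hd
  norm_num at hd

section orbits360
variable {N : Type*} [Group N] [Finite N] [IsSimpleGroup N] (ι : N →* Perm (Fin 8))
  (hι : Function.Injective ι) (hc : Nat.card N = 360)
include hι hc

theorem orbit_cases_360 (x : Fin 8) :
    (∀ n : N, ι n x = x) ∨ (Set.range (fun n : N => ι n x)).ncard = 6 := by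
  letI : MulAction N (Fin 8) := MulAction.compHom (Fin 8) ι
  by_cases hfix : ∀ n : N, ι n x = x
  · exact Or.inl hfix
  · right
    push Not at hfix
    obtain ⟨n₀, hn₀⟩ := hfix
    have hK : MulAction.stabilizer N x ≠ ⊤ := by
      intro h
      apply hn₀
      have : n₀ ∈ MulAction.stabilizer N x := by rw [h]; trivial
      exact this
    have hd := card_dvd_factorial_index (MulAction.stabilizer N x) hK
    have hidx := MulAction.index_stabilizer N x
    have horb : MulAction.orbit N x = Set.range (fun n : N => ι n x) := rfl
    rw [horb] at hidx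
    rw [hidx, hc] at hd
    have hle : (Set.range (fun n : N => ι n x)).ncard ≤ 8 := by
      have := Set.ncard_le_card (Set.range (fun n : N => ι n x))
      simpa using this
    have hmul := Subgroup.index_mul_card (MulAction.stabilizer N x)
    rw [hidx, hc] at hmul
    generalize (Set.range (fun n : N => ι n x)).ncard = s at *
    interval_cases s
    · norm_num [Nat.factorial] at hd
    · norm_num [Nat.factorial] at hd
    · norm_num [Nat.factorial] at hd
    · norm_num [Nat.factorial] at hd
    · norm_num [Nat.factorial] at hd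
    · norm_num [Nat.factorial] at hd
    · rfl
    · omega
    · exfalso
      have h45 : Nat.card (MulAction.stabilizer N x) = 45 := by omega
      exact no_order_45 (ι.comp (MulAction.stabilizer N x).subtype)
        (hι.comp (Subgroup.subtype_injective _)) h45

theorem fixed_ncard_360 : ({x : Fin 8 | ∀ n : N, ι n x = x} : Set (Fin 8)).ncard = 2 := by
  letI : MulAction N (Fin 8) := MulAction.compHom (Fin 8) ι
  have horb : ∀ x : Fin 8, MulAction.orbit N x = Set.range (fun n : N => ι n x) := fun _ => rfl
  -- some point is moved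
  have hex : ∃ x : Fin 8, ¬ ∀ n : N, ι n x = x := by
    by_contra h
    push Not at h
    have h1 : ∀ n : N, n = 1 := by
      intro n
      apply hι
      rw [map_one]
      ext x
      rw [h x n]
      rfl
    haveI : Subsingleton N := ⟨fun a b => (h1 a).trans (h1 b).symm⟩
    have : Nat.card N = 1 := Nat.card_of_subsingleton 1
    omega
  obtain ⟨x, hx⟩ := hex
  have h6 : (MulAction.orbit N x).ncard = 6 := by
    rcases orbit_cases_360 ι hι hc x with h | h
    · exact absurd h hx
    · exact h
  have hset : ({y : Fin 8 | ∀ n : N, ι n y = y} : Set (Fin 8)) = (MulAction.orbit N x)ᶜ := by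
    ext y
    simp only [Set.mem_setOf_eq, Set.mem_compl_iff]
    constructor
    · intro hy hmem
      -- a fixed point in the orbit of `x` forces `x` fixed
      obtain ⟨k, hk⟩ := hmem
      apply hx
      intro n
      have hk' : ι k x = y := hk
      have h3 : x = ι k⁻¹ y := by
        rw [← hk', ← Perm.mul_apply, ← map_mul, inv_mul_cancel, map_one]
        rfl
      rw [h3, ← Perm.mul_apply, ← map_mul]
      have h4 : ι (n * k⁻¹) y = y := hy _
      have h5 : ι k⁻¹ y = y := hy _
      rw [h4, h5]
    · intro hy
      by_contra hmoved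
      have h6' : (MulAction.orbit N y).ncard = 6 := by
        rcases orbit_cases_360 ι hι hc y with h | h
        · exact absurd h hmoved
        · exact h
      have hdisj : Disjoint (MulAction.orbit N x) (MulAction.orbit N y) := by
        rcases MulAction.orbit.eq_or_disjoint (G := N) x y with h | h
        · exfalso
          apply hy
          rw [h]
          exact MulAction.mem_orbit_self y
        · exact h
      have hu := Set.ncard_union_eq hdisj (Set.toFinite _) (Set.toFinite _)
      have hle := Set.ncard_le_card (MulAction.orbit N x ∪ MulAction.orbit N y)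
      simp at hle
      omega
  rw [hset, Set.ncard_compl, h6]
  simp

end orbits360

theorem card_alt6 : Nat.card (alternatingGroup (Fin 6)) = 360 := by
  have h := two_mul_nat_card_alternatingGroup (α := Fin 6)
  rw [card_perm6] at h
  omega

/-- an even permutation moving at most two points is trivial -/
theorem eq_one_of_support_subset {σ : Perm (Fin 8)} (hσ : σ ∈ alternatingGroup (Fin 8))
    (F : Set (Fin 8)) (hF : F.ncard = 2) (hsub : ∀ x, σ x ≠ x → x ∈ F) : σ = 1 := by
  classical
  have hle : σ.support.card ≤ 2 := by
    rw [← hF, ← Set.ncard_coe_finset]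
    apply Set.ncard_le_ncard _ (Set.toFinite F)
    intro x hx
    exact hsub x (Perm.mem_support.1 hx)
  have h1 := Perm.card_support_ne_one σ
  rw [← Perm.card_support_eq_zero]
  by_contra h0
  have h2 : σ.support.card = 2 := by omega
  have hs := (Perm.card_support_eq_two.1 h2).sign_eq
  rw [Perm.mem_alternatingGroup] at hσ
  rw [hσ] at hs
  exact absurd hs (by decide)

section case360
variable {H : Type*} [Group H] [Finite H] (ι : H →* Perm (Fin 8)) (hι : Function.Injective ι)
  (hA : ∀ x, ι x ∈ alternatingGroup (Fin 8))
include hι hA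

theorem iso_of_normal_360 (N : Subgroup H) [hNn : N.Normal] [IsSimpleGroup N]
    (hN : Nat.card N = 360) :
    Nonempty (H ≃* alternatingGroup (Fin 6)) ∨ Nonempty (H ≃* Perm (Fin 6)) := by
  classical
  let F : Set (Fin 8) := {x | ∀ n : N, ι (n : H) x = x}
  have hF : F.ncard = 2 :=
    fixed_ncard_360 (ι.comp N.subtype) (hι.comp N.subtype_injective) hN
  letI : MulAction H (Fin 8) := MulAction.compHom (Fin 8) ι
  have hsmul : ∀ (h : H) (x : Fin 8), h • x = ι h x := fun _ _ => rfl
  have hFinv : ∀ h : H, ∀ x ∈ F, ι h x ∈ F := by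
    intro h x hx n
    have hconj : h⁻¹ * (n : H) * h ∈ N := by
      have := hNn.conj_mem (n : H) n.2 h⁻¹
      simpa using this
    have h1 : ι (h⁻¹ * (n : H) * h) x = x := hx ⟨_, hconj⟩
    have h2 : ι (n : H) (ι h x) = ι h (ι (h⁻¹ * (n : H) * h) x) := by
      rw [← Perm.mul_apply, ← Perm.mul_apply, ← map_mul, ← map_mul]
      congr 2
      group
    rw [h2, h1]
  let Y : SubMulAction H (Fin 8) :=
    { carrier := Fᶜ
      smul_mem' := by
        intro h y hy hmem
        apply hy
        have := hFinv h⁻¹ _ hmem
        rw [hsmul, ← Perm.mul_apply, ← map_mul, inv_mul_cancel, map_one] at this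
        exact this }
  have hYcard : Nat.card Y = 6 := by
    have h1 : Nat.card Y = (Fᶜ : Set (Fin 8)).ncard := rfl
    rw [h1, Set.ncard_compl, hF]
    simp
  have hρinj : Function.Injective (MulAction.toPermHom H Y) := by
    rw [injective_iff_map_eq_one]
    intro h hh
    apply hι
    rw [map_one]
    apply eq_one_of_support_subset (hA h) F hF
    intro x hx
    by_contra hxF
    apply hx
    have := congrArg (fun p : Perm Y => ((p ⟨x, hxF⟩ : Y) : Fin 8)) hh
    exact this
  have hdvd : Nat.card H ∣ 720 := by
    have h1 := Subgroup.card_dvd_of_injective _ hρinj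
    rw [Nat.card_perm, hYcard] at h1
    exact h1
  have hdvd2 : 360 ∣ Nat.card H := by
    rw [← hN]
    exact Subgroup.card_subgroup_dvd_card N
  have hcases : Nat.card H = 360 ∨ Nat.card H = 720 := by
    obtain ⟨k, hk⟩ := hdvd2
    have hle : Nat.card H ≤ 720 := Nat.le_of_dvd (by norm_num) hdvd
    have hpos : 0 < Nat.card H := Nat.card_pos
    have hk' : k = 1 ∨ k = 2 := by omega
    rcases hk' with rfl | rfl <;> omega
  rcases hcases with h | h
  · left
    obtain ⟨ε⟩ := Cfsg.Agent.S0497.result (G := N) hN
    have htop : N = ⊤ := Subgroup.eq_top_of_card_eq N (by rw [hN, h])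
    exact ⟨((MulEquiv.subgroupCongr htop).trans Subgroup.topEquiv).symm.trans ε⟩
  · right
    have hb : Function.Bijective (MulAction.toPermHom H Y) := by
      rw [Nat.bijective_iff_injective_and_card]
      refine ⟨hρinj, ?_⟩
      rw [h, Nat.card_perm, hYcard]
      rfl
    let e : Y ≃ Fin 6 := Finite.equivFinOfCardEq hYcard
    exact ⟨(MulEquiv.ofBijective _ hb).trans (permCongrHom e)⟩

end case360

end Cfsg.Agent.Lib.Helper5.GL42
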