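import Mathlib
import Cfsg.Prelude.Def_Solvable
import Cfsg.Agent.S0721
import Cfsg.Agent.S0496

set_option autoImplicit false

/-! # Minimal normal subgroups of a group with trivial cores, order dividing 20160 -/

namespace Cfsg.Agent.Lib.Helper5.GL42

open Cfsg

section
variable {H : Type*} [Group H] [Finite H]

theorem le_pCore_of_normal_pgroup (p : ℕ) (N : Subgroup H) [N.Normal] (hN : IsPGroup p N) :
    N ≤ pCore p H :=
  le_sSup ⟨inferInstance, hN⟩

theorem le_pPrimeCore_of_normal_coprime (p : ℕ) (N : Subgroup H) [N.Normal]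
    (hN : (Nat.card N).Coprime p) : N ≤ pPrimeCore p H :=
  le_sSup ⟨inferInstance, hN⟩

/-- a minimal normal subgroup below a nontrivial normal subgroup -/
theorem exists_minimal_normal_le (K : Subgroup H) [K.Normal] (hK : K ≠ ⊥) :
    ∃ N : Subgroup H, N.Normal ∧ N ≠ ⊥ ∧ N ≤ K ∧
      ∀ M : Subgroup H, M.Normal → M ≤ N → M = ⊥ ∨ M = N := by
  classical
  have hfin : (Set.univ : Set (Subgroup H)).Finite := Set.toFinite _
  let S : Set (Subgroup H) := {M | M.Normal ∧ M ≠ ⊥ ∧ M ≤ K}
  have hS : S.Finite := Set.toFinite _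
  have hne : S.Nonempty := ⟨K, inferInstance, hK, le_rfl⟩
  obtain ⟨N, hNS, hmin⟩ := hS.exists_minimal hne
  refine ⟨N, hNS.1, hNS.2.1, hNS.2.2, ?_⟩
  intro M hM hMN
  by_cases hb : M = ⊥
  · exact Or.inl hb
  · right
    have hMS : M ∈ S := ⟨hM, hb, hMN.trans hNS.2.2⟩
    exact le_antisymm hMN (hmin hMS hMN)

theorem card_pi_fin {T : Type} [Group T] (m : ℕ) : Nat.card (Fin m → T) = Nat.card T ^ m := by
  rw [Nat.card_pi]
  simp

/-- minimal normal subgroups are nonabelian simple -/
theorem simple_of_minimal_normal (hcard : Nat.card H ∣ 20160)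
    (hO2 : pCore 2 H = ⊥) (hO : pPrimeCore 2 H = ⊥)
    (N : Subgroup H) [hNn : N.Normal] (hN : N ≠ ⊥)
    (hmin : ∀ M : Subgroup H, M.Normal → M ≤ N → M = ⊥ ∨ M = N) :
    IsSimpleGroup N ∧ ¬ IsMulCommutative N := by
  obtain ⟨T, _, m, hT, hm, ⟨e⟩⟩ := Cfsg.Agent.S0721.result N hN hmin
  have hTfin : Finite T := by
    have : Finite (Fin m → T) := Finite.of_equiv _ e.toEquiv
    have i : Fin m := ⟨0, hm⟩
    exact Finite.of_injective (fun t : T => (fun _ : Fin m => t)) (fun a b h => congrFun h i)
  have hcN : Nat.card N = Nat.card T ^ m := by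
    rw [Nat.card_congr e.toEquiv, card_pi_fin]
  have hNdvd : Nat.card N ∣ 20160 := (Subgroup.card_subgroup_dvd_card N).trans hcard
  by_cases hTc : IsMulCommutative T
  · exfalso
    letI : CommGroup T := { ‹Group T› with mul_comm := hTc.is_comm.comm }
    have hp : (Nat.card T).Prime := IsSimpleGroup.prime_card
    have hpg : IsPGroup (Nat.card T) N := IsPGroup.of_card hcN
    by_cases h2 : Nat.card T = 2
    · rw [h2] at hpg
      have := le_pCore_of_normal_pgroup 2 N hpg
      rw [hO2] at this
      exact hN (le_bot_iff.1 this)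
    · have hcop : (Nat.card N).Coprime 2 := by
        rw [hcN]
        apply Nat.Coprime.pow_left
        exact (Nat.coprime_primes hp Nat.prime_two).2 h2
      have := le_pPrimeCore_of_normal_coprime 2 N hcop
      rw [hO] at this
      exact hN (le_bot_iff.1 this)
  · have hm1 : m = 1 := by
      by_contra hne
      have hm2 : 2 ≤ m := by omega
      have hsq : Nat.card T ^ 2 ∣ 20160 := (pow_dvd_pow _ hm2).trans (hcN ▸ hNdvd)
      have hle : Nat.card T ^ 2 ≤ 20160 := Nat.le_of_dvd (by norm_num) hsq
      have hle' : Nat.card T ≤ 141 := by nlinarith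
      have h := Cfsg.Agent.S0496.result (G := T) hTc (by omega)
      have h60 : Nat.card T = 60 := by omega
      rw [h60] at hsq
      norm_num at hsq
    subst hm1
    let e' : N ≃* T := e.trans
      { toFun := fun f => f 0
        invFun := fun t => fun _ => t
        left_inv := fun f => by funext i; rw [Subsingleton.elim i 0]
        right_inv := fun t => rfl
        map_mul' := fun f g => rfl }
    constructor
    · exact e'.isSimpleGroup
    · intro hc
      apply hTc
      constructor
      constructor
      intro a b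
      have := hc.is_comm.comm (e'.symm a) (e'.symm b)
      have h2 := congrArg e' this
      simpa using h2

end

end Cfsg.Agent.Lib.Helper5.GL42
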