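import Mathlib
import Cfsg.Agent.Lib.Helper5.GL42.G4
import Cfsg.Agent.S0496
import Cfsg.Agent.S1016
import Cfsg.Agent.S1017

set_option autoImplicit false

/-! # Orders of the simple subgroups of the alternating group of degree eight -/

namespace Cfsg.Agent.Lib.Helper5.GL42

open Equiv

theorem simple_card_cases {T : Type*} [Group T] [Finite T] [IsSimpleGroup T]
    (hnc : ¬ IsMulCommutative T) (ι : T →* Perm (Fin 8)) (hι : Function.Injective ι)
    (hA : ∀ x, ι x ∈ alternatingGroup (Fin 8)) (h1344 : Nat.card T ≠ 1344) :
    Nat.card T = 60 ∨ Nat.card T = 168 ∨ Nat.card T = 360 ∨ Nat.card T = 2520 ∨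
      Nat.card T = 20160 := by
  have hd := card_dvd_A8 ι hι hA
  have hsyl := sylow7_congruence ι hι hA
  have hidx := index_not_small ι hι hA
  have h1016 := Cfsg.Agent.S1016.result (G := T)
  have h1017 := Cfsg.Agent.S1017.result (G := T)
  by_cases hle : Nat.card T ≤ 1092
  · have h := Cfsg.Agent.S0496.result (G := T) hnc hle
    generalize Nat.card T = n at *
    rcases h with h | h | h | h | h | h
    · exact Or.inl h
    · exact Or.inr (Or.inl h)
    · exact Or.inr (Or.inr (Or.inl h))
    · exfalso
      subst h
      rcases hsyl (by norm_num) with h | ⟨-, h⟩ <;> norm_num at h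
    · exfalso
      subst h
      norm_num at hd
    · exfalso
      subst h
      norm_num at hd
  · push Not at hle
    obtain ⟨k, hk⟩ := hd
    generalize Nat.card T = n at *
    have hk19 : k < 19 := by
      by_contra h
      push Not at h
      nlinarith
    have hidx' : ∀ k' : ℕ, k' * n = 20160 → 1 < k' → k' < 8 → False := hidx
    interval_cases k
    · omega
    · omega
    · exact (hidx' 2 (by omega) (by norm_num) (by norm_num)).elim
    · exact (hidx' 3 (by omega) (by norm_num) (by norm_num)).elim
    · exact (hidx' 4 (by omega) (by norm_num) (by norm_num)).elim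
    · exact (hidx' 5 (by omega) (by norm_num) (by norm_num)).elim
    · exact (hidx' 6 (by omega) (by norm_num) (by norm_num)).elim
    · exact (hidx' 7 (by omega) (by norm_num) (by norm_num)).elim
    · omega
    · exfalso
      have hn : n = 2240 := by omega
      subst hn
      rcases hsyl (by norm_num) with h | ⟨h1, h⟩ <;> omega
    · omega
    · omega
    · exfalso
      have hn : n = 1680 := by omega
      subst hn
      rcases hsyl (by norm_num) with h | ⟨h1, h⟩ <;> omega
    · omega
    · omega
    · omega
    · exfalso
      have hn : n = 1260 := by omega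
      subst hn
      rcases hsyl (by norm_num) with h | ⟨h1, h⟩ <;> omega
    · omega
    · exfalso
      have hn : n = 1120 := by omega
      subst hn
      rcases hsyl (by norm_num) with h | ⟨h1, h⟩ <;> omega

end Cfsg.Agent.Lib.Helper5.GL42
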