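import Mathlib
import Cfsg.Agent.Lib.Helper5.GL42.G2
import Cfsg.Agent.Lib.Helper5.GL42.G5

set_option autoImplicit false

/-! # Groups with trivial cores inside the alternating group of degree eight: the socle -/

namespace Cfsg.Agent.Lib.Helper5.GL42

open Equiv Cfsg

section
variable {H : Type*} [Group H] [Finite H] (ι : H →* Perm (Fin 8)) (hι : Function.Injective ι)
  (hA : ∀ x, ι x ∈ alternatingGroup (Fin 8))
include hι hA

/-- a group of order `20160` inside the alternating group is the alternating group -/
theorem iso_A8 (hc : Nat.card H = 20160) : Nonempty (H ≃* alternatingGroup (Fin 8)) := by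
  let ι' : H →* alternatingGroup (Fin 8) :=
    { toFun := fun x => ⟨ι x, hA x⟩
      map_one' := Subtype.ext (map_one ι)
      map_mul' := fun a b => Subtype.ext (map_mul ι a b) }
  have hinj : Function.Injective ι' := by
    intro a b h
    exact hι (congrArg Subtype.val h)
  have hbij : Function.Bijective ι' := by
    rw [Nat.bijective_iff_injective_and_card]
    exact ⟨hinj, by rw [hc, card_A8]⟩
  exact ⟨MulEquiv.ofBijective ι' hbij⟩

/-- the orders of the normal simple subgroups -/
theorem normal_simple_card (h1344 : ∀ N : Subgroup H, Nat.card N = 1344 → ¬ IsSimpleGroup N)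
    (N : Subgroup H) (hs : IsSimpleGroup N) (hnc : ¬ IsMulCommutative N) :
    Nat.card N = 60 ∨ Nat.card N = 168 ∨ Nat.card N = 360 ∨ Nat.card N = 2520 ∨
      Nat.card N = 20160 := by
  apply simple_card_cases hnc (ι.comp N.subtype)
  · exact hι.comp N.subtype_injective
  · intro x
    exact hA _
  · intro h
    exact h1344 N h hs

/-- the centralizer of a minimal normal subgroup is trivial -/
theorem centralizer_eq_bot (hO2 : pCore 2 H = ⊥) (hO : pPrimeCore 2 H = ⊥)
    (h1344 : ∀ N : Subgroup H, Nat.card N = 1344 → ¬ IsSimpleGroup N)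
    (N : Subgroup H) [hNn : N.Normal] (hN : N ≠ ⊥)
    (hmin : ∀ M : Subgroup H, M.Normal → M ≤ N → M = ⊥ ∨ M = N) :
    Subgroup.centralizer (N : Set H) = ⊥ := by
  have hcard := card_dvd_A8 ι hι hA
  obtain ⟨hs, hnc⟩ := simple_of_minimal_normal hcard hO2 hO N hN hmin
  by_contra hC
  haveI : (Subgroup.centralizer (N : Set H)).Normal := Subgroup.normal_centralizer
  obtain ⟨N', hN'n, hN'ne, hN'le, hmin'⟩ :=
    exists_minimal_normal_le (Subgroup.centralizer (N : Set H)) hC
  haveI := hN'n
  obtain ⟨hs', hnc'⟩ := simple_of_minimal_normal hcard hO2 hO N' hN'ne hmin'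
  -- trivial intersection
  have hinf : N ⊓ N' = ⊥ := by
    rcases hmin (N ⊓ N') (Subgroup.normal_inf_normal N N') inf_le_left with h | h
    · exact h
    · exfalso
      apply hnc
      constructor
      constructor
      intro a b
      have hb : (b : H) ∈ Subgroup.centralizer (N : Set H) := by
        apply hN'le
        have : (b : H) ∈ N ⊓ N' := by rw [h]; exact b.2
        exact this.2
      apply Subtype.ext
      have := (Subgroup.mem_centralizer_iff.1 hb) (a : H) a.2
      exact this
  -- the product embeds
  let φ : N × N' →* H := MonoidHom.noncommCoprod N.subtype N'.subtype (by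
    intro a b
    have hb : (b : H) ∈ Subgroup.centralizer (N : Set H) := hN'le b.2
    exact (Subgroup.mem_centralizer_iff.1 hb) (a : H) a.2)
  have hφinj : Function.Injective φ := by
    rw [injective_iff_map_eq_one]
    rintro ⟨a, b⟩ hab
    have h1 : (a : H) * (b : H) = 1 := hab
    have h2 : (a : H) = (b : H)⁻¹ := eq_inv_of_mul_eq_one_left h1
    have h3 : (a : H) ∈ N ⊓ N' := ⟨a.2, by rw [h2]; exact N'.inv_mem b.2⟩
    rw [hinf, Subgroup.mem_bot] at h3
    have h4 : (b : H) = 1 := by
      rw [h3, one_mul] at h1
      exact h1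
    exact Prod.ext (Subtype.ext h3) (Subtype.ext h4)
  have hc1 := normal_simple_card ι hι hA h1344 N hs hnc
  have hc2 := normal_simple_card ι hι hA h1344 N' hs' hnc'
  have hdvd : Nat.card N * Nat.card N' ∣ 20160 := by
    rw [← Nat.card_prod]
    exact (Subgroup.card_dvd_of_injective φ hφinj).trans hcard
  have hprod : Nat.card (N × N') = 10080 := by
    rw [Nat.card_prod]
    rcases hc1 with h | h | h | h | h <;> rcases hc2 with h' | h' | h' | h' | h' <;>
      rw [h, h'] at hdvd ⊢ <;> first | (norm_num at hdvd; done) | norm_num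
  exact index_not_small (ι.comp φ) (hι.comp hφinj) (fun x => hA _) 2 (by rw [hprod])
    (by norm_num) (by norm_num)

end

end Cfsg.Agent.Lib.Helper5.GL42
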