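import Mathlib
import Cfsg.Agent.Lib.Helper5.GL42.G8
import Cfsg.Agent.Lib.Helper5.GL42.G9
import Cfsg.Agent.Lib.Helper5.GL42.G10
import Cfsg.Agent.Lib.Helper5.GL42.G11
import Cfsg.Agent.Lib.Helper5.GL42.G12

set_option autoImplicit false

/-! # Groups with trivial cores inside the alternating group of degree eight -/

namespace Cfsg.Agent.Lib.Helper5.GL42

open Equiv Cfsg

theorem main_perm {H : Type*} [Group H] [Finite H] [Nontrivial H] (ι : H →* Perm (Fin 8))
    (hι : Function.Injective ι) (hA : ∀ x, ι x ∈ alternatingGroup (Fin 8))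
    (hO2 : pCore 2 H = ⊥) (hO : pPrimeCore 2 H = ⊥)
    (h1344 : ∀ N : Subgroup H, Nat.card N = 1344 → ¬ IsSimpleGroup N) :
    (∃ n : ℕ, 5 ≤ n ∧ n ≤ 8 ∧ Nonempty (H ≃* alternatingGroup (Fin n))) ∨
    Nonempty (H ≃* Perm (Fin 5)) ∨ Nonempty (H ≃* Perm (Fin 6)) ∨
    Nonempty (H ≃* GL (Fin 3) (ZMod 2)) := by
  have hcard := card_dvd_A8 ι hι hA
  have htop : (⊤ : Subgroup H) ≠ ⊥ := by
    intro h
    obtain ⟨a, b, hab⟩ := exists_pair_ne H
    apply hab
    have ha : a ∈ (⊥ : Subgroup H) := by rw [← h]; trivial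
    have hb : b ∈ (⊥ : Subgroup H) := by rw [← h]; trivial
    rw [Subgroup.mem_bot] at ha hb
    rw [ha, hb]
  obtain ⟨N, hNn, hNne, -, hmin⟩ := exists_minimal_normal_le (⊤ : Subgroup H) htop
  haveI := hNn
  obtain ⟨hs, hnc⟩ := simple_of_minimal_normal hcard hO2 hO N hNne hmin
  haveI := hs
  have hNdvd : Nat.card N ∣ Nat.card H := Subgroup.card_subgroup_dvd_card N
  rcases normal_simple_card ι hι hA h1344 N hs hnc with h | h | h | h | h
  · -- order 60
    have hC := centralizer_eq_bot ι hι hA hO2 hO h1344 N hNne hmin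
    rcases iso_of_normal_A5 N h hC with h5 | h5
    · exact Or.inl ⟨5, le_rfl, by norm_num, h5⟩
    · exact Or.inr (Or.inl h5)
  · -- order 168
    have ht := normal_168_eq_top ι hι hA N h
    have e : N ≃* H := (MulEquiv.subgroupCongr ht).trans Subgroup.topEquiv
    haveI : IsSimpleGroup H := e.symm.isSimpleGroup
    have hc : Nat.card H = 168 := by rw [← Nat.card_congr e.toEquiv, h]
    exact Or.inr (Or.inr (Or.inr (iso_gl3_of_simple hc)))
  · -- order 360
    rcases iso_of_normal_360 ι hι hA N h with h6 | h6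
    · exact Or.inl ⟨6, by norm_num, by norm_num, h6⟩
    · exact Or.inr (Or.inr (Or.inl h6))
  · -- order 2520
    rw [h] at hNdvd
    obtain ⟨m, hm⟩ := hNdvd
    obtain ⟨k, hk⟩ := hcard
    have hmk : m * k = 8 := by
      rw [hm] at hk
      have : 2520 * 8 = 2520 * (m * k) := by rw [← mul_assoc, ← hk]
      omega
    have hk8 : k ≤ 8 := by
      have : 0 < m := by
        rcases Nat.eq_zero_or_pos m with h0 | h0
        · rw [h0] at hmk; omega
        · exact h0
      nlinarith
    have hk' : k * Nat.card H = 20160 := by rw [mul_comm, ← hk]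
    interval_cases k
    · omega
    · -- the whole alternating group: impossible
      exfalso
      have hc : Nat.card H = 20160 := by omega
      obtain ⟨e⟩ := iso_A8 ι hι hA hc
      haveI : IsSimpleGroup H := e.isSimpleGroup
      rcases hNn.eq_bot_or_eq_top with hb | ht
      · exact hNne hb
      · rw [ht, Subgroup.card_top, hc] at h
        omega
    · exact (index_not_small ι hι hA 2 hk' (by norm_num) (by norm_num)).elim
    · exact (index_not_small ι hι hA 3 hk' (by norm_num) (by norm_num)).elim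
    · exact (index_not_small ι hι hA 4 hk' (by norm_num) (by norm_num)).elim
    · exact (index_not_small ι hι hA 5 hk' (by norm_num) (by norm_num)).elim
    · exact (index_not_small ι hι hA 6 hk' (by norm_num) (by norm_num)).elim
    · exact (index_not_small ι hι hA 7 hk' (by norm_num) (by norm_num)).elim
    · have hc : Nat.card H = 2520 := by omega
      exact Or.inl ⟨7, by norm_num, by norm_num, iso_A7 ι hι hA hc⟩
  · -- order 20160
    have hc : Nat.card H = 20160 := by
      rw [h] at hNdvd
      exact Nat.dvd_antisymm hcard hNdvd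
    exact Or.inl ⟨8, by norm_num, le_rfl, iso_A8 ι hι hA hc⟩

end Cfsg.Agent.Lib.Helper5.GL42
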