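import Mathlib
import Cfsg.Agent.Lib.Helper5.GL42.G4

set_option autoImplicit false

/-! # Orbits of a simple group of order 1344 -/

namespace Cfsg.Agent.Lib.Helper5.GL42

section orbits
variable {T X : Type*} [Group T] [Finite T] [IsSimpleGroup T] [MulAction T X]

theorem orbit_ncard_ge (hcard : Nat.card T = 1344) (x : X) (hx : ∃ g : T, g • x ≠ x) :
    8 ≤ (MulAction.orbit T x).ncard := by
  have hK : MulAction.stabilizer T x ≠ ⊤ := by
    intro h
    obtain ⟨g, hg⟩ := hx
    apply hg
    have : g ∈ MulAction.stabilizer T x := by rw [h]; trivial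
    exact this
  have hd := card_dvd_factorial_index (MulAction.stabilizer T x) hK
  rw [MulAction.index_stabilizer, hcard] at hd
  by_contra hlt
  push Not at hlt
  have h7 : (MulAction.orbit T x).ncard ≤ 7 := by omega
  have := hd.trans (Nat.factorial_dvd_factorial h7)
  norm_num [Nat.factorial] at this

theorem orbit_ncard_dvd (x : X) : (MulAction.orbit T x).ncard ∣ Nat.card T := by
  rw [← MulAction.index_stabilizer]
  exact Subgroup.index_dvd_card _

/-- on fifteen points there is a fixed point -/
theorem exists_fixed_of_card_fifteen [Finite X] (hcard : Nat.card T = 1344) (hX : Nat.card X = 15) :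
    ∃ x : X, ∀ g : T, g • x = x := by
  by_contra hno
  push Not at hno
  have hpos : 0 < Nat.card X := by omega
  haveI : Nonempty X := (Nat.card_pos_iff.1 hpos).1
  obtain ⟨x⟩ : Nonempty X := inferInstance
  have h8 := orbit_ncard_ge hcard x (hno x)
  by_cases hall : MulAction.orbit T x = Set.univ
  · have hd := orbit_ncard_dvd (T := T) x
    rw [hall, Set.ncard_univ, hX, hcard] at hd
    norm_num at hd
  · obtain ⟨y, hy⟩ : ∃ y, y ∉ MulAction.orbit T x := by
      by_contra h
      push Not at h
      exact hall (Set.eq_univ_of_forall h)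
    have h8' := orbit_ncard_ge hcard y (hno y)
    have hdisj : Disjoint (MulAction.orbit T x) (MulAction.orbit T y) := by
      rcases MulAction.orbit.eq_or_disjoint (G := T) x y with h | h
      · exfalso
        apply hy
        rw [h]
        exact MulAction.mem_orbit_self y
      · exact h
    have hu := Set.ncard_union_eq hdisj (Set.toFinite _) (Set.toFinite _)
    have hle := Set.ncard_le_card (MulAction.orbit T x ∪ MulAction.orbit T y)
    omega

/-- on eight points with a fixed point, all points are fixed -/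
theorem all_fixed_of_card_eight [Finite X] (hcard : Nat.card T = 1344) (hX : Nat.card X = 8)
    (x₀ : X) (hx₀ : ∀ g : T, g • x₀ = x₀) (y : X) (g : T) : g • y = y := by
  by_contra hne
  have h8 := orbit_ncard_ge hcard y ⟨g, hne⟩
  have hdisj : Disjoint ({x₀} : Set X) (MulAction.orbit T y) := by
    rw [Set.disjoint_singleton_left]
    intro hmem
    obtain ⟨k, hk⟩ := hmem
    have : y = x₀ := by
      have h1 : k⁻¹ • (k • y) = k⁻¹ • x₀ := congrArg (fun z => k⁻¹ • z) hk
      rw [inv_smul_smul, hx₀] at h1
      exact h1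
    apply hne
    rw [this]
    exact hx₀ g
  have hu := Set.ncard_union_eq hdisj (Set.toFinite _) (Set.toFinite _)
  have hle := Set.ncard_le_card (({x₀} : Set X) ∪ MulAction.orbit T y)
  rw [Set.ncard_singleton] at hu
  omega

end orbits

section orbits2
variable {T X : Type*} [Group T] [Finite T] [IsSimpleGroup T] [MulAction T X]

omit [Finite T] [IsSimpleGroup T] in
theorem not_mem_orbit_of_fixed (x₀ : X) (hx₀ : ∀ g : T, g • x₀ = x₀) (y : X) (hy : y ≠ x₀) :
    x₀ ∉ MulAction.orbit T y := by
  intro hmem
  obtain ⟨k, hk⟩ := hmem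
  apply hy
  have h1 : k⁻¹ • (k • y) = k⁻¹ • x₀ := congrArg (fun z => k⁻¹ • z) hk
  rw [inv_smul_smul, hx₀] at h1
  exact h1

/-- on sixteen points with a fixed point there is a second fixed point -/
theorem exists_fixed_ne_of_card_sixteen [Finite X] (hcard : Nat.card T = 1344)
    (hX : Nat.card X = 16) (x₀ : X) (hx₀ : ∀ g : T, g • x₀ = x₀) :
    ∃ x : X, x ≠ x₀ ∧ ∀ g : T, g • x = x := by
  by_contra hno
  push Not at hno
  haveI : Nontrivial X := Finite.one_lt_card_iff_nontrivial.1 (by omega)
  obtain ⟨x, hx⟩ := exists_ne x₀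
  have h8 := orbit_ncard_ge hcard x (hno x hx)
  have hx₀x := not_mem_orbit_of_fixed x₀ hx₀ x hx
  have hd1 : Disjoint ({x₀} : Set X) (MulAction.orbit T x) := Set.disjoint_singleton_left.2 hx₀x
  have hu1 := Set.ncard_union_eq hd1 (Set.toFinite _) (Set.toFinite _)
  rw [Set.ncard_singleton] at hu1
  by_cases hall : ({x₀} : Set X) ∪ MulAction.orbit T x = Set.univ
  · have hd := orbit_ncard_dvd (T := T) x
    rw [hall, Set.ncard_univ, hX] at hu1
    have h15 : (MulAction.orbit T x).ncard = 15 := by omega
    rw [h15, hcard] at hd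
    norm_num at hd
  · obtain ⟨y, hy⟩ : ∃ y, y ∉ ({x₀} : Set X) ∪ MulAction.orbit T x := by
      by_contra h
      push Not at h
      exact hall (Set.eq_univ_of_forall h)
    have hy0 : y ≠ x₀ := fun h => hy (Or.inl h)
    have hyx : y ∉ MulAction.orbit T x := fun h => hy (Or.inr h)
    have h8' := orbit_ncard_ge hcard y (hno y hy0)
    have hx₀y := not_mem_orbit_of_fixed x₀ hx₀ y hy0
    have hdisj : Disjoint (MulAction.orbit T x) (MulAction.orbit T y) := by
      rcases MulAction.orbit.eq_or_disjoint (G := T) x y with h | h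
      · exfalso
        apply hyx
        rw [h]
        exact MulAction.mem_orbit_self y
      · exact h
    have hd2 : Disjoint (({x₀} : Set X) ∪ MulAction.orbit T x) (MulAction.orbit T y) := by
      rw [Set.disjoint_union_left]
      exact ⟨Set.disjoint_singleton_left.2 hx₀y, hdisj⟩
    have hu2 := Set.ncard_union_eq hd2 (Set.toFinite _) (Set.toFinite _)
    have hle := Set.ncard_le_card (({x₀} : Set X) ∪ MulAction.orbit T x ∪ MulAction.orbit T y)
    omega

/-- an invariant set of eight points containing a fixed point is fixed pointwise -/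
theorem fixed_of_invariant_eight (hcard : Nat.card T = 1344) (S : Set X) (hS : S.ncard = 8)
    (hinv : ∀ g : T, ∀ y ∈ S, g • y ∈ S)
    (x₀ : X) (hx₀S : x₀ ∈ S) (hx₀ : ∀ g : T, g • x₀ = x₀) (y : X) (hy : y ∈ S) (g : T) :
    g • y = y := by
  by_contra hne
  have hSfin : S.Finite := Set.finite_of_ncard_ne_zero (by omega)
  have h8 := orbit_ncard_ge hcard y ⟨g, hne⟩
  have hy0 : y ≠ x₀ := by
    intro h
    apply hne
    rw [h]
    exact hx₀ g
  have hx₀y := not_mem_orbit_of_fixed x₀ hx₀ y hy0
  have hsub : MulAction.orbit T y ⊆ S \ {x₀} := by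
    rintro _ ⟨k, rfl⟩
    refine ⟨hinv k y hy, ?_⟩
    intro h
    exact hx₀y ⟨k, h⟩
  have h1 := Set.ncard_le_ncard hsub (hSfin.subset Set.diff_subset)
  have h2 : (S \ {x₀}).ncard = 7 := by
    rw [Set.ncard_diff_singleton_of_mem hx₀S, hS]
  omega

end orbits2

end Cfsg.Agent.Lib.Helper5.GL42
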