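import Mathlib
import Cfsg.Agent.Lib.Helper5.GL42.G6

set_option autoImplicit false

/-! # `GL(4,2)` has no simple subgroup of order 1344 -/

namespace Cfsg.Agent.Lib.Helper5.GL42

open Matrix

/-- row vectors, acted on from the right by inverses -/
structure DualV where
  /-- the underlying vector -/
  val : Fin 4 → ZMod 2

theorem DualV.ext' {a b : DualV} (h : a.val = b.val) : a = b := by
  cases a; cases b; cases h; rfl

/-- the underlying equivalence -/
def DualV.equiv : DualV ≃ (Fin 4 → ZMod 2) where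
  toFun := DualV.val
  invFun := DualV.mk
  left_inv := fun _ => rfl
  right_inv := fun _ => rfl

instance : Finite DualV := Finite.of_equiv _ DualV.equiv.symm

/-- the matrix of an element -/
abbrev mt (g : GL (Fin 4) (ZMod 2)) : Matrix (Fin 4) (Fin 4) (ZMod 2) := ↑g

instance : MulAction (GL (Fin 4) (ZMod 2)) DualV where
  smul g f := ⟨Matrix.vecMul f.val (mt g⁻¹)⟩
  one_smul f := by
    apply DualV.ext'
    show Matrix.vecMul f.val (mt (1 : GL (Fin 4) (ZMod 2))⁻¹) = f.val
    simp [mt]
  mul_smul g h f := by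
    apply DualV.ext'
    show Matrix.vecMul f.val (mt (g * h)⁻¹) = Matrix.vecMul (Matrix.vecMul f.val (mt h⁻¹)) (mt g⁻¹)
    rw [Matrix.vecMul_vecMul, _root_.mul_inv_rev]
    rfl

theorem dual_smul_val (g : GL (Fin 4) (ZMod 2)) (f : DualV) :
    (g • f).val = Matrix.vecMul f.val (mt g⁻¹) := rfl

theorem vec_smul_def (g : GL (Fin 4) (ZMod 2)) (w : Fin 4 → ZMod 2) :
    g • w = (mt g).mulVec w := rfl

set_option maxRecDepth 100000 in
theorem perp_card : ∀ v : Fin 4 → ZMod 2, v ≠ 0 →
    (Finset.univ.filter (fun f : Fin 4 → ZMod 2 => f ⬝ᵥ v = 0)).card = 8 := by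
  decide +kernel

set_option maxRecDepth 100000 in
theorem double_perp : ∀ v c : Fin 4 → ZMod 2, v ≠ 0 →
    (∀ f : Fin 4 → ZMod 2, f ⬝ᵥ v = 0 → f ⬝ᵥ c = 0) → c = 0 ∨ c = v := by
  decide +kernel

theorem card_V4 : Nat.card (Fin 4 → ZMod 2) = 16 := by
  rw [Nat.card_eq_fintype_card]
  simp

theorem no_simple_1344 (T : Subgroup (GL (Fin 4) (ZMod 2))) [IsSimpleGroup T]
    (hcard : Nat.card T = 1344) : False := by
  classical
  haveI : Finite T := Nat.finite_of_card_ne_zero (by omega)
  -- step 1: a fixed nonzero vector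
  have h0 : ∀ g : T, g • (0 : Fin 4 → ZMod 2) = 0 := by
    intro g
    show (g : GL (Fin 4) (ZMod 2)) • (0 : Fin 4 → ZMod 2) = 0
    rw [vec_smul_def, Matrix.mulVec_zero]
  obtain ⟨v, hv0, hv⟩ := exists_fixed_ne_of_card_sixteen (T := T) (X := Fin 4 → ZMod 2) hcard
    card_V4 0 h0
  have hv' : ∀ g : T, (mt (g : GL (Fin 4) (ZMod 2))).mulVec v = v := fun g => hv g
  -- step 2: the functionals vanishing on `v` are fixed
  let S : Set DualV := {f | f.val ⬝ᵥ v = 0}
  have hS : S.ncard = 8 := by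
    have h1 := perp_card v hv0
    rw [← h1, ← Set.ncard_coe_finset]
    have : S = DualV.equiv ⁻¹' (↑(Finset.univ.filter (fun f : Fin 4 → ZMod 2 => f ⬝ᵥ v = 0))) := by
      ext f
      simp [S, DualV.equiv]
    rw [this, Set.ncard_preimage_of_injective_subset_range DualV.equiv.injective]
    rw [DualV.equiv.range_eq_univ]
    exact Set.subset_univ _
  have hinv : ∀ g : T, ∀ f ∈ S, g • f ∈ S := by
    intro g f hf
    show (Matrix.vecMul f.val (mt ((g : GL (Fin 4) (ZMod 2))⁻¹))) ⬝ᵥ v = 0
    rw [← Matrix.dotProduct_mulVec]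
    have : (mt ((g : GL (Fin 4) (ZMod 2))⁻¹)).mulVec v = v := hv' g⁻¹
    rw [this]
    exact hf
  have hz : ∀ g : T, g • (⟨0⟩ : DualV) = ⟨0⟩ := by
    intro g
    apply DualV.ext'
    show Matrix.vecMul (0 : Fin 4 → ZMod 2) _ = 0
    exact Matrix.zero_vecMul _
  have hfix := fixed_of_invariant_eight (T := T) (X := DualV) hcard S hS hinv
    (⟨0⟩ : DualV) (by show (0 : Fin 4 → ZMod 2) ⬝ᵥ v = 0; simp) hz
  -- step 3: `g w - w ∈ {0, v}`
  have hstep : ∀ g : T, ∀ w : Fin 4 → ZMod 2,
      (mt (g : GL (Fin 4) (ZMod 2))).mulVec w - w = 0 ∨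
      (mt (g : GL (Fin 4) (ZMod 2))).mulVec w - w = v := by
    intro g w
    apply double_perp v _ hv0
    intro f hf
    have h1 := hfix (⟨f⟩ : DualV) hf g⁻¹
    have h2 : Matrix.vecMul f (mt (g : GL (Fin 4) (ZMod 2))) = f := by
      have h3 := congrArg DualV.val h1
      have h4 : ((g⁻¹ : T) • (⟨f⟩ : DualV)).val =
          Matrix.vecMul f (mt (((g⁻¹ : T) : GL (Fin 4) (ZMod 2))⁻¹)) := rfl
      rw [h4] at h3
      simpa using h3
    rw [dotProduct_sub, Matrix.dotProduct_mulVec, h2, sub_self]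
  -- step 4: every element is an involution
  have hsq : ∀ g : T, g * g = 1 := by
    intro g
    apply Subtype.ext
    apply Units.ext
    apply Matrix.mulVec_injective
    funext w
    show ((mt (g : GL (Fin 4) (ZMod 2))) * (mt (g : GL (Fin 4) (ZMod 2)))).mulVec w
      = (1 : Matrix (Fin 4) (Fin 4) (ZMod 2)).mulVec w
    rw [← Matrix.mulVec_mulVec, Matrix.one_mulVec]
    rcases hstep g w with h | h
    · have hw : (mt (g : GL (Fin 4) (ZMod 2))).mulVec w = w := sub_eq_zero.1 h
      rw [hw, hw]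
    · have hw : (mt (g : GL (Fin 4) (ZMod 2))).mulVec w = w + v := by
        rw [← h]; abel
      rw [hw, Matrix.mulVec_add, hw, hv' g]
      have : v + v = 0 := by
        funext i
        show v i + v i = 0
        generalize v i = a
        revert a
        decide
      rw [add_assoc, this, add_zero]
  -- step 5: commutative, contradiction
  have hcomm : ∀ a b : T, a * b = b * a := by
    intro a b
    have h1 := hsq (a * b)
    have ha := hsq a
    have hb := hsq b
    have ha' : a⁻¹ = a := by rw [inv_eq_iff_mul_eq_one]; exact ha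
    have hb' : b⁻¹ = b := by rw [inv_eq_iff_mul_eq_one]; exact hb
    have h2 : (a * b)⁻¹ = a * b := by rw [inv_eq_iff_mul_eq_one]; exact h1
    rw [_root_.mul_inv_rev, ha', hb'] at h2
    exact h2.symm
  letI : CommGroup T := { (inferInstance : Group T) with mul_comm := hcomm }
  have hp : (Nat.card T).Prime := IsSimpleGroup.prime_card
  rw [hcard] at hp
  norm_num at hp

end Cfsg.Agent.Lib.Helper5.GL42
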